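import Groth.Agent.PerfMorLib.Stalk
import Groth.Agent.DerSchH7.Stalk

/-!
# Uniform bounds on tor dimensions of ring maps and of morphisms of schemes
-/

set_option autoImplicit false
set_option linter.style.haveILetI false
set_option backward.isDefEq.respectTransparency false

universe u

open CategoryTheory AlgebraicGeometry TensorProduct
attribute [local instance] HasDerivedCategory.standard

noncomputable section

namespace Groth.Agent.FinTorLib

open Groth.Agent.DRingLib Groth.Agent.DCohLib Groth.Agent.DTenLib Groth.Agent.PerfMorLib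

variable {A B C : Type u} [CommRing A] [CommRing B] [CommRing C]

theorem tdle_comp {φ : A →+* B} {ψ : B →+* C} {d e : ℕ} (hd : TDLE d φ) (he : TDLE e ψ) :
    TDLE (d + e) (ψ.comp φ) := by
  rw [TDLE, hasTorDimLE_iff_amp] at hd he ⊢
  have h := amp_restrictD φ hd he
  obtain ⟨i⟩ := nonempty_restrictD_inD φ (ModuleCat.of B (baseMod ψ))
  exact hasTorAmplitudeIn_mono (by push_cast; omega) le_rfl (amp_of_iso
    (i ≪≫ (DerivedCategory.singleFunctor (ModuleCat.{u} A) 0).mapIso (restrictBaseMod φ ψ)) h)

theorem tdle_comp_flat_right {φ : A →+* B} {ψ : B →+* C} {d : ℕ} (hd : TDLE d φ) (hψ : ψ.Flat) :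
    TDLE d (ψ.comp φ) := by
  simpa using tdle_comp hd (tdle_zero_of_flat hψ)

theorem tdle_comp_flat_left {φ : A →+* B} {ψ : B →+* C} {d : ℕ} (hφ : φ.Flat) (hd : TDLE d ψ) :
    TDLE d (ψ.comp φ) := by
  simpa using tdle_comp (tdle_zero_of_flat hφ) hd

theorem tdle_of_isPushout {R R' S S' : Type u} [CommRing R] [CommRing R'] [CommRing S] [CommRing S']
    [Algebra R R'] [Algebra R S] [Algebra R' S'] [Algebra S S'] [Algebra R S'] [IsScalarTower R R' S']
    [IsScalarTower R S S'] [Algebra.IsPushout R R' S S'] [Module.Flat R R'] {d : ℕ}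
    (h : TDLE d (algebraMap R S)) : TDLE d (algebraMap R' S') := by
  let e := Algebra.IsPushout.equiv R R' S S'
  have := tdle_comp_flat_right (tdle_baseChange (R' := R') h)
    (RingHom.Flat.of_bijective (f := e.toRingEquiv.toRingHom) e.bijective)
  rwa [show e.toRingEquiv.toRingHom.comp (algebraMap R' (R' ⊗[R] S)) = algebraMap R' S' from
    RingHom.ext fun r => e.commutes r] at this

attribute [local instance] Polynomial.algebra in
theorem tdle_polynomial {φ : Polynomial A →+* B} {d : ℕ} (h : TDLE d (φ.comp Polynomial.C)) :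
    TDLE (d + 1) φ := by
  have h₁ : TDLE d (Polynomial.mapRingHom (φ.comp Polynomial.C)) := by
    letI := (φ.comp Polynomial.C).toAlgebra
    exact tdle_of_isPushout (R := A) (R' := Polynomial A) (S := B) (S' := Polynomial B) h
  have h₂ : TDLE 1 (Polynomial.evalRingHom (φ Polynomial.X)) := by
    refine tdle_of_ker_eq_span (fun b => ⟨Polynomial.C b, Polynomial.eval_C⟩)
      (Polynomial.X - Polynomial.C (φ Polynomial.X)) (fun p hp => ?_) (Ideal.ext fun p => ?_)
    · exact (Polynomial.monic_X_sub_C _).mul_right_eq_zero_iff.mp hp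
    · rw [RingHom.mem_ker, Ideal.mem_span_singleton, Polynomial.dvd_iff_isRoot]
      rfl
  have := tdle_comp h₁ h₂
  rwa [show (Polynomial.evalRingHom (φ Polynomial.X)).comp
      (Polynomial.mapRingHom (φ.comp Polynomial.C)) = φ from Polynomial.ringHom_ext (fun a => by simp) (by simp)]
    at this

/-- Adding `n` variables to the base costs at most `n` in tor dimension. -/
theorem tdle_mvPolynomial_fin : ∀ (n : ℕ) {φ : MvPolynomial (Fin n) A →+* B} {d : ℕ},
    TDLE d (φ.comp MvPolynomial.C) → TDLE (d + n) φ := by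
  intro n
  induction n with
  | zero =>
    intro φ d h
    let e := MvPolynomial.isEmptyAlgEquiv A (Fin 0)
    have := tdle_comp_flat_left (RingHom.Flat.of_bijective (f := e.toRingEquiv.toRingHom) e.bijective) h
    rwa [show (φ.comp MvPolynomial.C).comp e.toRingEquiv.toRingHom = φ from
      MvPolynomial.ringHom_ext (fun a => congrArg (fun x => φ (MvPolynomial.C x)) (e.commutes a))
        fun i => i.elim0] at this
  | succ n ih =>
    intro φ d h
    let e := MvPolynomial.finSuccEquiv A n
    let φ' : Polynomial (MvPolynomial (Fin n) A) →+* B := φ.comp e.symm.toRingEquiv.toRingHom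
    have h' : TDLE (d + n) (φ'.comp Polynomial.C) := ih (by
      rwa [show (φ'.comp Polynomial.C).comp MvPolynomial.C = φ.comp MvPolynomial.C from
        RingHom.ext fun a => congrArg φ (e.symm.commutes a)])
    have := tdle_comp_flat_left (RingHom.Flat.of_bijective (f := e.toRingEquiv.toRingHom) e.bijective)
      (tdle_polynomial h')
    rwa [show φ'.comp e.toRingEquiv.toRingHom = φ from RingHom.ext fun p => by simp [φ']] at this

theorem tdle_localRingHom_iff {d : ℕ} (f : A →+* B) (p : Ideal A)
    [p.IsPrime] (Q : Ideal B) [Q.IsPrime] (hpQ : p = Q.comap f) :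
    TDLE d (Localization.localRingHom p Q f hpQ) ↔
      TDLE d ((algebraMap B (Localization.AtPrime Q)).comp f) := by
  let ψ := Localization.localRingHom p Q f hpQ
  have hψ : ψ.comp (algebraMap A (Localization.AtPrime p)) =
      (algebraMap B (Localization.AtPrime Q)).comp f :=
    RingHom.ext fun x => Localization.localRingHom_to_map p Q f hpQ x
  haveI : Module.Flat A (Localization.AtPrime p) := IsLocalization.flat _ p.primeCompl
  constructor
  · intro h
    rw [← hψ]
    exact tdle_comp_flat_left ((RingHom.flat_algebraMap_iff).mpr ‹_›) h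
  · intro h
    letI algψ := ψ.toAlgebra
    letI : Algebra A (Localization.AtPrime Q) := ((algebraMap B (Localization.AtPrime Q)).comp f).toAlgebra
    haveI : IsScalarTower A (Localization.AtPrime p) (Localization.AtPrime Q) :=
      .of_algebraMap_eq fun x => (RingHom.congr_fun hψ x).symm
    have hle : Algebra.algebraMapSubmonoid (Localization.AtPrime Q) p.primeCompl ≤
        IsUnit.submonoid (Localization.AtPrime Q) := by
      rintro _ ⟨x, hx, rfl⟩
      exact IsLocalization.map_units (Localization.AtPrime Q)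
        (⟨f x, fun hfx => hx (by rw [hpQ]; exact hfx)⟩ : Q.primeCompl)
    haveI : IsLocalization (Algebra.algebraMapSubmonoid (Localization.AtPrime Q) p.primeCompl)
        (Localization.AtPrime Q) := IsLocalization.self hle
    haveI : Algebra.IsPushout A (Localization.AtPrime p) (Localization.AtPrime Q) (Localization.AtPrime Q) :=
      (Algebra.isPushout_of_isLocalization p.primeCompl (Localization.AtPrime p) (Localization.AtPrime Q) _).symm
    exact tdle_of_isPushout (R := A) (R' := Localization.AtPrime p) (S := Localization.AtPrime Q)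
      (S' := Localization.AtPrime Q) h

theorem tdle_respectsIso (d : ℕ) :
    RingHom.RespectsIso (fun {R S : Type u} [CommRing R] [CommRing S] (f : R →+* S) => TDLE d f) :=
  ⟨fun _ e hf => tdle_comp_flat_right hf (RingHom.Flat.of_bijective e.bijective),
    fun _ e hf => tdle_comp_flat_left (RingHom.Flat.of_bijective e.bijective) hf⟩

variable {X Y : Scheme.{u}}

/-- Tor dimension at a point is the tor dimension of the stalk map. -/
theorem hasTorAmplitudeAt_unit_iff (g : X ⟶ Y) (x : X) (d : ℕ) :
    DerSch.HasTorAmplitudeAt g (-(d : ℤ)) 0 (DerSch.unitCx X) x ↔ TDLE d (g.stalkMap x).hom := by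
  let ψ := (g.stalkMap x).hom
  let e : DRing.toD ((DerSch.stalkCxOver g x).obj (DerSch.unitCx X)) ≅
      Dual.inD (Y.presheaf.stalk (g.base x)) (baseMod ψ) :=
    DerivedCategory.Q.mapIso (DerSchH7.stalkUnitCxIso g x) ≪≫
      ((DTen.resFactors ψ).app _).symm ≪≫
      (nonempty_restrictD_inD ψ (ModuleCat.of (X.presheaf.stalk x) (X.presheaf.stalk x))).some
  rw [TDLE, hasTorDimLE_iff_amp]
  exact ⟨fun h => amp_of_iso e h, fun h => amp_of_iso e.symm h⟩

/-- A finite tor dimension is witnessed by stalk maps of bounded tor dimension. -/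
theorem exists_tdle_of_hasFiniteTorDim {g : X ⟶ Y} (h : DerSch.HasFiniteTorDim g) :
    ∃ N : ℕ, ∀ x : X, TDLE N (g.stalkMap x).hom := by
  obtain ⟨a, b, hab⟩ := h
  refine ⟨(-a).toNat, fun x => ?_⟩
  let ψ := (g.stalkMap x).hom
  let e : DRing.toD ((DerSch.stalkCxOver g x).obj (DerSch.unitCx X)) ≅
      Dual.inD (Y.presheaf.stalk (g.base x)) (baseMod ψ) :=
    DerivedCategory.Q.mapIso (DerSchH7.stalkUnitCxIso g x) ≪≫
      ((DTen.resFactors ψ).app _).symm ≪≫
      (nonempty_restrictD_inD ψ (ModuleCat.of (X.presheaf.stalk x) (X.presheaf.stalk x))).some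
  rw [TDLE, hasTorDimLE_iff_amp]
  refine hasTorAmplitudeIn_of_aboveZero (b := max b 0) (by omega)
    (hasTorAmplitudeIn_mono (by omega) (le_max_left _ _) (amp_of_iso e (hab x))) ?_
  exact aboveZero_inD (ModuleCat.of _ (baseMod ψ))

theorem hasFiniteTorDim_of_tdle {g : X ⟶ Y} {N : ℕ} (h : ∀ x : X, TDLE N (g.stalkMap x).hom) :
    DerSch.HasFiniteTorDim g :=
  ⟨-(N : ℤ), 0, fun x => (hasTorAmplitudeAt_unit_iff g x N).2 (h x)⟩

theorem flat_stalkMap_of_isIso (g : X ⟶ Y) [IsIso g] (x : X) : (g.stalkMap x).hom.Flat :=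
  RingHom.Flat.of_bijective (ConcreteCategory.bijective_of_isIso (g.stalkMap x))

/-- The stalk maps of a morphism of affine spectra. -/
theorem tdle_stalkMap_specMap {R S : CommRingCat.{u}} (φ : R ⟶ S) (p : PrimeSpectrum S) {d : ℕ} :
    TDLE d ((Spec.map φ).stalkMap p).hom ↔
      TDLE d ((algebraMap S (Localization.AtPrime p.asIdeal)).comp φ.hom) := by
  haveI := RingHom.toMorphismProperty_respectsIso_iff.mp (tdle_respectsIso.{u} d)
  rw [show TDLE d ((Spec.map φ).stalkMap p).hom ↔ _ from
    (RingHom.toMorphismProperty fun f => TDLE d f).arrow_mk_iso_iff (Scheme.arrowStalkMapSpecIso φ p)]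
  exact tdle_localRingHom_iff _ _ _ rfl

/-- Closed embedding of an affine scheme into an affine space over an affine base, keeping finite tor dimension. -/
theorem exists_closed_finiteTorDim {A B : CommRingCat.{u}} (ρ : A ⟶ B) (hρ : ρ.hom.FiniteType) {N : ℕ}
    (h : ∀ x, TDLE N ((Spec.map ρ).stalkMap x).hom) :
    ∃ (P : CommRingCat.{u}) (ι : A ⟶ P) (φ : P ⟶ B), ι ≫ φ = ρ ∧ Function.Surjective φ.hom ∧
      Smooth (Spec.map ι) ∧ ∃ M : ℕ, ∀ x, TDLE M ((Spec.map φ).stalkMap x).hom := by
  algebraize [ρ.hom]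
  obtain ⟨n, φ, hφ⟩ := Algebra.FiniteType.iff_quotient_mvPolynomial''.mp ‹Algebra.FiniteType A B›
  refine ⟨CommRingCat.of (MvPolynomial (Fin n) A), CommRingCat.ofHom MvPolynomial.C,
    CommRingCat.ofHom φ.toRingHom, CommRingCat.hom_ext (RingHom.ext fun a => φ.commutes a), hφ, ?_, N + n,
    fun x => (tdle_stalkMap_specMap _ x).2 ?_⟩
  · rw [HasRingHomProperty.Spec_iff (P := @Smooth)]
    exact (RingHom.smooth_algebraMap.mpr (⟨inferInstance, inferInstance⟩ : Algebra.Smooth A (MvPolynomial (Fin n) A)) :)
  · refine tdle_mvPolynomial_fin n ?_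
    have := (tdle_stalkMap_specMap ρ x).1 (h x)
    rw [RingHom.comp_assoc]
    convert this using 2
    exact RingHom.ext fun a => φ.commutes a

end Groth.Agent.FinTorLib
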